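import Cfsg.Agent.Lib.Grp.FpfThree.Fusion
import Cfsg.Agent.S0215
import Cfsg.Agent.S0217

/-!
The centralizers of the elements of the closed subgroup lie in one proper subgroup, by `Z*` and the
solvable signalizer functor theorem.
-/

set_option autoImplicit false
set_option linter.style.haveILetI false
set_option linter.unusedSectionVars false

namespace Cfsg.Agent.Grp.FpfThree

open Cfsg.Agent.Block.SFour

universe u

variable {G : Type u} [Group G] [Finite G] {r : ℕ} {a : MulAut G}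

/-- The cores of the centralizers. -/
def theta (u : G) : Subgroup G :=
  (Cfsg.pPrimeCore 2 (Subgroup.centralizer ({u} : Set G))).map
    (Subgroup.centralizer ({u} : Set G)).subtype

theorem theta_le (u : G) : theta u ≤ Subgroup.centralizer ({u} : Set G) := Subgroup.map_subtype_le _

theorem theta_odd (u : G) : ¬ 2 ∣ Nat.card (theta u) := by
  haveI : Fact (Nat.Prime 2) := ⟨Nat.prime_two⟩
  intro h
  exact pPrimeCore_not_dvd (p := 2) (h.trans (Subgroup.card_map_dvd _ _))

theorem theta_conj {u x g : G} (hg : g ∈ Subgroup.centralizer ({u} : Set G)) (hx : x ∈ theta u) :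
    g * x * g⁻¹ ∈ theta u := by
  obtain ⟨y, hy, rfl⟩ := hx
  exact ⟨_, (Grp.pPrimeCore_isNormal (p := 2)).conj_mem y hy ⟨g, hg⟩, rfl⟩

theorem le_theta {u : G} {K : Subgroup G} (hK : K ≤ Subgroup.centralizer ({u} : Set G))
    (hn : Subgroup.centralizer ({u} : Set G) ≤ Subgroup.normalizer (K : Set G))
    (hodd : ¬ 2 ∣ Nat.card K) : K ≤ theta u := by
  haveI := Subgroup.normal_subgroupOf_of_le_normalizer hn
  have h : K.subgroupOf (Subgroup.centralizer ({u} : Set G)) ≤ Cfsg.pPrimeCore 2 _ :=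
    le_pPrimeCore inferInstance (by
      rw [Nat.card_congr (Subgroup.subgroupOfEquivOfLe hK).toEquiv]
      exact ((Nat.prime_two.coprime_iff_not_dvd).2 hodd).symm)
  exact fun x hx => ⟨⟨x, hK hx⟩, h hx, rfl⟩

/-- A `2`-group normalising a subgroup `K` of odd order and centralising an element modulo it
centralises some representative of the coset. -/
theorem exists_rep_centralizer {V K : Subgroup G} (hV : IsPGroup 2 V)
    (hVK : ∀ v ∈ V, ∀ y ∈ K, v * y * v⁻¹ ∈ K) (hK : ¬ 2 ∣ Nat.card K) {x : G}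
    (hx : ∀ v ∈ V, v * x * v⁻¹ * x⁻¹ ∈ K) :
    ∃ o ∈ K, o * x ∈ Subgroup.centralizer (V : Set G) := by
  haveI : Fact (Nat.Prime 2) := ⟨Nat.prime_two⟩
  letI : MulAction V K :=
    { smul := fun v o => ⟨(v : G) * o * (v : G)⁻¹ * ((v : G) * x * (v : G)⁻¹ * x⁻¹),
        K.mul_mem (hVK v v.2 o o.2) (hx v v.2)⟩
      one_smul := fun o => Subtype.ext (by
        show ((1 : V) : G) * o * ((1 : V) : G)⁻¹ * (((1 : V) : G) * x * ((1 : V) : G)⁻¹ * x⁻¹) = o
        simp)
      mul_smul := fun v w o => Subtype.ext (by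
        show ((v * w : V) : G) * o * ((v * w : V) : G)⁻¹ *
            (((v * w : V) : G) * x * ((v * w : V) : G)⁻¹ * x⁻¹) =
          (v : G) * ((w : G) * o * (w : G)⁻¹ * ((w : G) * x * (w : G)⁻¹ * x⁻¹)) * (v : G)⁻¹ *
            ((v : G) * x * (v : G)⁻¹ * x⁻¹)
        rw [Subgroup.coe_mul]
        group) }
  obtain ⟨o, ho⟩ := hV.nonempty_fixed_point_of_prime_not_dvd_card K hK
  refine ⟨o, o.2, Subgroup.mem_centralizer_iff.2 fun v hv => ?_⟩
  have h1 : v * o * v⁻¹ * (v * x * v⁻¹ * x⁻¹) = (o : G) := congrArg Subtype.val (ho ⟨v, hv⟩)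
  calc v * ((o : G) * x) = v * o * v⁻¹ * (v * x * v⁻¹ * x⁻¹) * (x * v) := by group
    _ = (o : G) * x * v := by rw [h1, mul_assoc]

variable {S : Sylow 2 G} {V : Subgroup G}

theorem Closed.le_centralizer (c : Closed r a S V) {u : G} (hu : u ∈ V) :
    (S : Subgroup G) ≤ Subgroup.centralizer ({u} : Set G) := fun s hs =>
  Subgroup.mem_centralizer_singleton_iff.2 ((c.le_omega hu).2 s hs)

theorem Closed.mem_centralizer (c : Closed r a S V) {u v : G} (hu : u ∈ V) (hv : v ∈ V) :
    v ∈ Subgroup.centralizer ({u} : Set G) := c.le_centralizer hu (c.le_sylow hv)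

theorem Closed.centralizer_le (c : Closed r a S V) {u : G} (hu : u ∈ V) :
    Subgroup.centralizer (V : Set G) ≤ Subgroup.centralizer ({u} : Set G) :=
  Subgroup.centralizer_le (Set.singleton_subset_iff.2 hu)

theorem Closed.cent_eq (c : Closed r a S V) {u : G} (hu : u ∈ V) (hu1 : u ≠ 1) {g : G}
    (hg : g ∈ Subgroup.centralizer ({u} : Set G)) :
    ∃ o ∈ theta u, o * g ∈ Subgroup.centralizer (V : Set G) := by
  refine exists_rep_centralizer (S.2.to_le c.le_sylow)
    (fun v hv y hy => theta_conj (c.mem_centralizer hu hv) hy) (theta_odd u) fun v hv => ?_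
  rcases eq_or_ne v 1 with rfl | hv1
  · rw [one_mul, inv_one, mul_one, mul_inv_cancel]; exact one_mem _
  let C := Subgroup.centralizer ({u} : Set G)
  have hvC : v ∈ C := c.mem_centralizer hu hv
  obtain ⟨N, hN, hNo, hNc⟩ := Cfsg.Agent.S0215.result (S.subtype (c.le_centralizer hu)) ⟨v, hvC⟩
    (by rw [Subgroup.orderOf_mk]; exact c.orderOf_eq hv hv1)
    (c.le_sylow hv) (fun g hgS => Subtype.ext (c.fix_one u hu hu1 v hv (g : G)
      (mul_inv_eq_iff_eq_mul.2 (Subgroup.mem_centralizer_singleton_iff.1 g.2)) hgS))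
  exact ⟨_, le_pPrimeCore hN (Nat.coprime_two_right.2 hNo) (hNc ⟨g, hg⟩), rfl⟩

theorem Closed.balance (c : Closed r a S V) {u w : G} (hu : u ∈ V) (hu1 : u ≠ 1) (hw : w ∈ V)
    (hw1 : w ≠ 1) : theta u ⊓ Subgroup.centralizer ({w} : Set G) ≤ theta w := by
  rintro x hx0
  have hx : x ∈ theta u := (Subgroup.mem_inf.1 hx0).1
  have hxw : x ∈ Subgroup.centralizer ({w} : Set G) := (Subgroup.mem_inf.1 hx0).2
  have hwu : w ∈ Subgroup.centralizer ({u} : Set G) := c.mem_centralizer hu hw
  obtain ⟨o', ho', hh'⟩ := c.cent_eq hw hw1 hxw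
  have hK : ∀ v ∈ V, v * x * v⁻¹ * x⁻¹ ∈ theta u ⊓ theta w := fun v hv => by
    refine Subgroup.mem_inf.2 ⟨mul_mem (theta_conj (c.mem_centralizer hu hv) hx) (inv_mem hx), ?_⟩
    have hcv : v * (o' * x) = o' * x * v := Subgroup.mem_centralizer_iff.1 hh' v hv
    have e : v * x * v⁻¹ * x⁻¹ = v * o'⁻¹ * v⁻¹ * o' := by
      calc v * x * v⁻¹ * x⁻¹ = v * o'⁻¹ * v⁻¹ * (v * (o' * x)) * v⁻¹ * x⁻¹ := by group
        _ = v * o'⁻¹ * v⁻¹ * o' := by rw [hcv]; group
    rw [e]
    exact mul_mem (theta_conj (c.mem_centralizer hw hv) (inv_mem ho')) ho'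
  obtain ⟨o, ho, hoh⟩ := exists_rep_centralizer (S.2.to_le c.le_sylow)
    (K := theta u ⊓ theta w) (fun v hv y hy =>
      Subgroup.mem_inf.2 ⟨theta_conj (c.mem_centralizer hu hv) (Subgroup.mem_inf.1 hy).1,
        theta_conj (c.mem_centralizer hw hv) (Subgroup.mem_inf.1 hy).2⟩)
    (fun h => theta_odd u (h.trans (Subgroup.card_dvd_of_le inf_le_left))) hK
  have hh : o * x ∈ theta u ⊓ Subgroup.centralizer (V : Set G) :=
    Subgroup.mem_inf.2 ⟨mul_mem (Subgroup.mem_inf.1 ho).1 hx, hoh⟩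
  let D := theta u ⊓ Subgroup.centralizer (V : Set G)
  have hDn : Subgroup.centralizer (V : Set G) ≤ Subgroup.normalizer (D : Set G) := fun d hd => by
    refine Grp.mem_normalizer_of_map_eq.2 (Subgroup.eq_of_le_of_card_ge ?_
      (Subgroup.card_map_of_injective (MulAut.conj d).injective).ge)
    rintro _ ⟨y, hy, rfl⟩
    exact ⟨theta_conj (c.centralizer_le hu hd) hy.1,
      (Subgroup.centralizer (V : Set G)).mul_mem ((Subgroup.centralizer (V : Set G)).mul_mem hd hy.2)
        ((Subgroup.centralizer (V : Set G)).inv_mem hd)⟩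
  have hDw : D ≤ Subgroup.normalizer (theta w : Set G) := fun d hd => by
    refine Grp.mem_normalizer_of_map_eq.2 (Subgroup.eq_of_le_of_card_ge ?_
      (Subgroup.card_map_of_injective (MulAut.conj d).injective).ge)
    rintro _ ⟨y, hy, rfl⟩
    exact theta_conj (c.centralizer_le hw hd.2) hy
  have hsup : D ⊔ theta w ≤ theta w := by
    refine le_theta (sup_le (inf_le_right.trans (c.centralizer_le hw)) (theta_le w)) ?_ ?_
    · intro g hg
      obtain ⟨o₁, ho₁, hd⟩ := c.cent_eq hw hw1 hg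
      rw [show g = o₁⁻¹ * (o₁ * g) by group]
      refine mul_mem (inv_mem (Subgroup.le_normalizer (Subgroup.mem_sup_right ho₁))) ?_
      refine Grp.mem_normalizer_of_map_eq.2 (Subgroup.eq_of_le_of_card_ge ?_
        (Subgroup.card_map_of_injective (MulAut.conj (o₁ * g)).injective).ge)
      rw [Subgroup.map_le_iff_le_comap]
      refine sup_le (fun y hy => Subgroup.mem_sup_left ?_) (fun y hy => Subgroup.mem_sup_right
        (theta_conj (c.centralizer_le hw hd) hy))
      exact (Subgroup.mem_normalizer_iff.1 (hDn hd) y).1 hy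
    · intro h
      rcases Nat.prime_two.dvd_mul.1 (h.trans (Grp.card_sup_dvd_mul hDw)) with h1 | h1
      · exact theta_odd u (h1.trans (Subgroup.card_dvd_of_le inf_le_left))
      · exact theta_odd w h1
  rw [show x = o⁻¹ * (o * x) by group]
  exact mul_mem (inv_mem (Subgroup.mem_inf.1 ho).2) (hsup (Subgroup.mem_sup_left hh))

theorem Closed.eight_le (m : Min r a) (c : Closed r a S V) : 2 ^ 3 ≤ Nat.card V := by
  classical
  haveI : Fact (Nat.Prime 2) := ⟨Nat.prime_two⟩
  haveI := Fintype.ofFinite G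
  obtain ⟨k, hk⟩ := IsPGroup.iff_card.1 (S.2.to_le c.le_sylow)
  rw [hk]
  refine Nat.pow_le_pow_right (by norm_num) (Nat.le_of_not_lt fun hk3 => ?_)
  obtain ⟨v, hv, hv1⟩ := (Subgroup.ne_bot_iff_exists_ne_one.1 c.ne_bot : _) |>
    fun ⟨⟨v, hv⟩, h1⟩ => (⟨v, hv, fun e => h1 (Subtype.ext e)⟩ : ∃ v ∈ V, v ≠ 1)
  have hne : ∀ w ∈ V, w ≠ 1 → a w ≠ w := fun w hw hw1 h =>
    c.not_conj w hw hw1 1 (by rw [one_mul, inv_one, mul_one, h])
  have hav := c.inv v hv
  have haav := c.inv _ hav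
  have hav1 : a v ≠ 1 := fun h => hv1 (a.injective (h.trans (map_one a).symm))
  have hne2 : a (a v) ≠ v := fun h => by
    have hf : a (v * a v) = v * a v := by rw [map_mul, h]; exact c.comm hav hv
    rcases eq_or_ne (v * a v) 1 with h1 | h1
    · refine hne v hv hv1 ?_
      have hvv : v * v = 1 := by rw [← pow_two]; exact c.sq hv
      exact mul_left_cancel (h1.trans hvv.symm)
    · exact hne _ (mul_mem hv hav) h1 hf
  obtain ⟨T, hT⟩ : ∃ T : Finset G, T = (V : Set G).toFinset := ⟨_, rfl⟩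
  have hcard : T.card ≤ 4 := by
    rw [hT, Set.toFinset_card, ← Nat.card_eq_fintype_card]
    exact (hk.trans_le (Nat.pow_le_pow_right (by norm_num) (by omega : k ≤ 2)) :)
  have hsub : ({1, v, a v, a (a v)} : Finset G) ⊆ T := by
    intro y hy
    simp only [Finset.mem_insert, Finset.mem_singleton] at hy
    rw [hT, Set.mem_toFinset]
    rcases hy with rfl | rfl | rfl | rfl
    · exact one_mem V
    · exact hv
    · exact hav
    · exact haav
  have hav2 : a (a v) ≠ 1 := fun h => hav1 (a.injective (h.trans (map_one a).symm))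
  have hfour : ({1, v, a v, a (a v)} : Finset G).card = 4 := by
    rw [Finset.card_insert_of_notMem (by simp [Ne.symm hv1, Ne.symm hav1, Ne.symm hav2]),
      Finset.card_insert_of_notMem (by simp [(hne v hv hv1).symm, hne2.symm]),
      Finset.card_insert_of_notMem (by simp [(hne _ hav hav1).symm]), Finset.card_singleton]
  have hall : T = ({1, v, a v, a (a v)} : Finset G) :=
    (Finset.eq_of_subset_of_card_le hsub (by rw [hfour]; exact hcard)).symm
  have hiso : ∀ g : G, g * v * g⁻¹ ∈ (S : Subgroup G) → g * v * g⁻¹ = v := by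
    intro g hg
    have hmem : ∀ y ∈ V, y = 1 ∨ y = v ∨ y = a v ∨ y = a (a v) := fun y hy => by
      have : y ∈ T := by rw [hT, Set.mem_toFinset]; exact hy
      rw [hall] at this
      simpa using this
    rcases hmem _ (c.closed v hv g hg) with h | h | h | h
    · exact absurd (conj_eq_one_iff.1 h) hv1
    · exact h
    · exact absurd h (c.not_conj v hv hv1 g)
    · exfalso
      rcases hmem _ (c.inv _ haav) with h3 | h3 | h3 | h3
      · exact hav2 (a.injective (h3.trans (map_one a).symm))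
      · refine c.not_conj _ haav hav2 g⁻¹ ?_
        rw [h3, ← h]
        group
      · exact hne2 (a.injective h3)
      · exact hne _ haav hav2 h3
  obtain ⟨N, hN, hNo, hNc⟩ := Cfsg.Agent.S0215.result S v (c.orderOf_eq hv hv1) (c.le_sylow hv) hiso
  have hbot := m.eq_bot_of_normal_odd hN fun h2 =>
    (Nat.not_even_iff_odd.2 hNo) (even_iff_two_dvd.2 h2)
  refine hv1 (Subgroup.mem_bot.1 (m.center_eq_bot ▸ Subgroup.mem_center_iff.2 fun g => ?_))
  have h1 := hNc g
  rw [hbot, Subgroup.mem_bot, mul_inv_eq_one, mul_inv_eq_iff_eq_mul] at h1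
  exact h1.symm

/-- All centralizers of nontrivial elements of `V` lie in one proper subgroup. -/
theorem Closed.exists_proper (m : Min r a) (c : Closed r a S V) :
    ∃ M : Subgroup G, M ≠ ⊤ ∧
      ∀ u ∈ V, u ≠ 1 → Subgroup.centralizer ({u} : Set G) ≤ M := by
  haveI : Fact (Nat.Prime 2) := ⟨Nat.prime_two⟩
  obtain ⟨W, hWd⟩ : ∃ W, W = ⨆ u : {u : G // u ∈ V ∧ u ≠ 1}, theta (u : G) := ⟨_, rfl⟩
  have hodd := (Cfsg.Agent.S0217.result (p := 2) V (fun v hv w hw => c.comm hv hw)
    (fun v hv => c.sq hv) (c.eight_le m) theta (fun v _ _ => theta_le v) (fun v _ _ => theta_odd v)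
    (fun v hv _ w hw x hx => theta_conj (c.mem_centralizer hv hw) hx)
    (fun v _ _ => Cfsg.Agent.S0205.result (Nat.not_even_iff_odd.1 fun h => theta_odd v
      (even_iff_two_dvd.1 h)))
    (fun v hv hv1 w hw hw1 => c.balance hv hv1 hw hw1)).1
  rw [← hWd] at hodd
  have hth : ∀ u ∈ V, u ≠ 1 → theta u ≤ W := fun u hu hu1 =>
    hWd ▸ le_iSup (fun u : {u : G // u ∈ V ∧ u ≠ 1} => theta (u : G)) ⟨u, hu, hu1⟩
  by_cases hW : W = ⊥
  · refine ⟨Subgroup.normalizer (V : Set G), fun h => ?_, fun u hu hu1 g hg => ?_⟩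
    · rw [Subgroup.normalizer_eq_top_iff] at h
      exact c.ne_bot (m.eq_bot_of_normal_two h (S.2.to_le c.le_sylow))
    · obtain ⟨o, ho, hog⟩ := c.cent_eq hu hu1 hg
      have ho1 : o = 1 := Subgroup.mem_bot.1 (hW ▸ hth u hu hu1 ho)
      rw [ho1, one_mul] at hog
      exact Subgroup.centralizer_le_normalizer _ hog
  refine ⟨Subgroup.normalizer (W : Set G), fun h => ?_, fun u hu hu1 g hg => ?_⟩
  · rw [Subgroup.normalizer_eq_top_iff] at h
    exact hW (m.eq_bot_of_normal_odd h hodd)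
  · obtain ⟨o, ho, hog⟩ := c.cent_eq hu hu1 hg
    rw [show g = o⁻¹ * (o * g) by group]
    refine mul_mem (inv_mem (Subgroup.le_normalizer (hth u hu hu1 ho))) ?_
    refine Grp.mem_normalizer_of_map_eq.2 (Subgroup.eq_of_le_of_card_ge ?_
      (Subgroup.card_map_of_injective (MulAut.conj (o * g)).injective).ge)
    rw [Subgroup.map_le_iff_le_comap, hWd]
    refine iSup_le fun v x hx => ?_
    exact le_iSup (fun u : {u : G // u ∈ V ∧ u ≠ 1} => theta (u : G)) v
      (theta_conj (c.centralizer_le v.2.1 hog) hx)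

end Cfsg.Agent.Grp.FpfThree
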