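import Mathlib
import Cfsg.Agent.Lib.Spor.FpfMod.Chain
import Cfsg.Agent.Lib.Grp.Cores

/-!
Automorphisms of prime order not dividing the group order whose fixed points form an abelian group
of odd order: stability under invariant subgroups and quotients.
-/

set_option autoImplicit false
set_option linter.style.haveILetI false
set_option linter.unusedSectionVars false

namespace Cfsg.Agent.Grp.FpfThree

open Cfsg.Agent.Spor.FpfMod
open scoped Pointwise

universe u

variable {G : Type u} [Group G]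

/-- The hypothesis. -/
structure Hyp (r : ℕ) (a : MulAut G) : Prop where
  prime : r.Prime
  pow : a ^ r = 1
  cop : ¬ r ∣ Nat.card G
  three : ¬ 3 ∣ Nat.card G
  comm : ∀ x y : G, a x = x → a y = y → x * y = y * x
  odd : ∀ x : G, a x = x → Odd (orderOf x)

/-- A set of size prime to `r` mapped to itself by an automorphism of order `r` has a fixed point. -/
theorem exists_fixed_of_mapsTo [Finite G] {r : ℕ} {a : MulAut G} (hr : r.Prime) (hpow : a ^ r = 1)
    {s : Set G} (hs : ∀ x ∈ s, a x ∈ s) (hcard : ¬ r ∣ Nat.card s) : ∃ x ∈ s, a x = x := by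
  classical
  haveI := Fintype.ofFinite s
  haveI : Fact r.Prime := ⟨hr⟩
  let f : s → s := fun x => ⟨a x, hs x x.2⟩
  have hinj : Function.Injective f := fun x y h =>
    Subtype.ext (a.injective (congrArg Subtype.val h))
  let σ : Equiv.Perm s := Equiv.ofBijective f ⟨hinj, Finite.injective_iff_surjective.1 hinj⟩
  have hk : ∀ (k : ℕ) (x : s), ((σ ^ k) x : G) = (a ^ k) (x : G) := by
    intro k
    induction k with
    | zero => intro x; rfl
    | succ k ih =>
      intro x
      rw [pow_succ', Equiv.Perm.mul_apply, pow_succ', MulAut.mul_apply]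
      show a ((σ ^ k) x : G) = _
      rw [ih]
  have hσ : σ ^ r ^ 1 = 1 := by
    rw [pow_one]
    exact Equiv.ext fun x => Subtype.ext (by rw [hk, hpow]; rfl)
  obtain ⟨x, hx⟩ := Equiv.Perm.exists_fixed_point_of_prime
    (by rw [← Nat.card_eq_fintype_card]; exact hcard) hσ
  exact ⟨x, x.2, congrArg Subtype.val hx⟩

variable [Finite G] {r : ℕ} {a : MulAut G}

/-- The inverse image under an invariance condition. -/
theorem map_eq_of_invariant {H : Subgroup G} (hH : ∀ x ∈ H, a x ∈ H) :
    H.map a.toMonoidHom = H :=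
  Subgroup.eq_of_le_of_card_ge (by rintro _ ⟨x, hx, rfl⟩; exact hH x hx)
    (Subgroup.card_map_of_injective a.injective).ge

/-- Fixed points lift modulo an invariant subgroup. -/
theorem exists_fixed_rep (h : Hyp r a) {K : Subgroup G} (hK : ∀ x ∈ K, a x ∈ K) {x : G}
    (hx : x⁻¹ * a x ∈ K) : ∃ c, a c = c ∧ x⁻¹ * c ∈ K := by
  let s : Set G := {y | x⁻¹ * y ∈ K}
  have hs : ∀ y ∈ s, a y ∈ s := fun y hy => by
    have h2 := K.mul_mem hx (hK _ hy)
    rwa [map_mul, map_inv, show x⁻¹ * a x * ((a x)⁻¹ * a y) = x⁻¹ * a y by group] at h2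
  let e : s ≃ K :=
    { toFun := fun y => ⟨x⁻¹ * (y : G), y.2⟩
      invFun := fun k => ⟨x * (k : G), by show x⁻¹ * (x * (k : G)) ∈ K; rw [inv_mul_cancel_left]; exact k.2⟩
      left_inv := fun y => Subtype.ext (mul_inv_cancel_left x (y : G))
      right_inv := fun k => Subtype.ext (inv_mul_cancel_left x (k : G)) }
  have hcard : ¬ r ∣ Nat.card s := fun hd =>
    h.cop ((Nat.card_congr e ▸ hd : r ∣ Nat.card K).trans (Subgroup.card_subgroup_dvd_card K))
  obtain ⟨c, hc, hfix⟩ := exists_fixed_of_mapsTo h.prime h.pow hs hcard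
  exact ⟨c, hfix, hc⟩

/-- The fixed point subgroup. -/
def fixed (a : MulAut G) : Subgroup G where
  carrier := {x | a x = x}
  one_mem' := map_one a
  mul_mem' := fun {x y} hx hy => by
    show a (x * y) = x * y
    rw [map_mul, hx, hy]
  inv_mem' := fun {x} hx => by
    show a x⁻¹ = x⁻¹
    rw [map_inv, hx]

theorem mem_fixed {x : G} : x ∈ fixed a ↔ a x = x := Iff.rfl

theorem Hyp.odd_card (h : Hyp r a) : Odd (Nat.card (fixed a)) := by
  by_contra hne
  haveI : Fact (Nat.Prime 2) := ⟨Nat.prime_two⟩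
  obtain ⟨x, hx⟩ := exists_prime_orderOf_dvd_card' (G := fixed a) 2
    (even_iff_two_dvd.1 (Nat.not_odd_iff_even.1 hne))
  have h2 := h.odd (x : G) x.2
  rw [Subgroup.orderOf_coe, hx] at h2
  exact absurd h2 (by decide)

/-- The automorphism induced on an invariant subgroup. -/
def resAut (a : MulAut G) (H : Subgroup G) (hH : ∀ x ∈ H, a x ∈ H) : MulAut H :=
  resHom H ⟨a, mem_stabAut hH⟩

theorem resAut_coe {H : Subgroup G} (hH : ∀ x ∈ H, a x ∈ H) (x : H) :
    ((resAut a H hH x : H) : G) = a (x : G) := rfl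

theorem Hyp.res (h : Hyp r a) {H : Subgroup G} (hH : ∀ x ∈ H, a x ∈ H) :
    Hyp r (resAut a H hH) where
  prime := h.prime
  pow := by
    show resHom H ⟨a, mem_stabAut hH⟩ ^ r = 1
    rw [← map_pow, show (⟨a, mem_stabAut hH⟩ : stabAut H) ^ r = 1 from Subtype.ext h.pow, map_one]
  cop := fun hd => h.cop (hd.trans (Subgroup.card_subgroup_dvd_card H))
  three := fun hd => h.three (hd.trans (Subgroup.card_subgroup_dvd_card H))
  comm := fun x y hx hy =>
    Subtype.ext (h.comm x y (congrArg Subtype.val hx) (congrArg Subtype.val hy))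
  odd := fun x hx => by
    rw [← Subgroup.orderOf_coe]
    exact h.odd x (congrArg Subtype.val hx)

/-- The automorphism induced on the quotient by an invariant normal subgroup. -/
def quotAut (a : MulAut G) (N : Subgroup G) [N.Normal] (hN : ∀ x ∈ N, a x ∈ N) : MulAut (G ⧸ N) :=
  quotHom N ⟨a, mem_stabAut hN⟩

theorem quotAut_mk {N : Subgroup G} [N.Normal] (hN : ∀ x ∈ N, a x ∈ N) (x : G) :
    quotAut a N hN (x : G ⧸ N) = ((a x : G) : G ⧸ N) := rfl

theorem Hyp.quot (h : Hyp r a) (N : Subgroup G) [N.Normal] (hN : ∀ x ∈ N, a x ∈ N) :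
    Hyp r (quotAut a N hN) := by
  have lift : ∀ q : G ⧸ N, quotAut a N hN q = q → ∃ c, a c = c ∧ (c : G ⧸ N) = q := by
    intro q
    induction q using QuotientGroup.induction_on with
    | _ x =>
      intro hq
      obtain ⟨c, hc, hc'⟩ := exists_fixed_rep h hN (QuotientGroup.eq.1 hq.symm : x⁻¹ * a x ∈ N)
      exact ⟨c, hc, (QuotientGroup.eq.2 hc').symm⟩
  refine ⟨h.prime, ?_, fun hd => h.cop (hd.trans (Subgroup.card_quotient_dvd_card N)),
    fun hd => h.three (hd.trans (Subgroup.card_quotient_dvd_card N)), fun x y hx hy => ?_,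
    fun x hx => ?_⟩
  · show quotHom N ⟨a, mem_stabAut hN⟩ ^ r = 1
    rw [← map_pow, show (⟨a, mem_stabAut hN⟩ : stabAut N) ^ r = 1 from Subtype.ext h.pow, map_one]
  · obtain ⟨c, hc, rfl⟩ := lift x hx
    obtain ⟨d, hd, rfl⟩ := lift y hy
    exact congrArg (QuotientGroup.mk' N) (h.comm c d hc hd)
  · obtain ⟨c, hc, rfl⟩ := lift x hx
    exact (h.odd c hc).of_dvd_nat (orderOf_map_dvd (QuotientGroup.mk' N) c)

/-- The cores are invariant. -/
theorem apply_mem_pCore (a : MulAut G) {p : ℕ} :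
    ∀ x ∈ Cfsg.pCore p G, a x ∈ Cfsg.pCore p G := fun x hx => by
  have hle : (Cfsg.pCore p G).map a.toMonoidHom ≤ Cfsg.pCore p G :=
    le_pCore (Subgroup.Normal.map (Grp.pCore_isNormal) _ a.surjective)
      ((pCore_isPGroup).map _)
  exact hle ⟨x, hx, rfl⟩

theorem apply_mem_pPrimeCore (a : MulAut G) {p : ℕ} :
    ∀ x ∈ Cfsg.pPrimeCore p G, a x ∈ Cfsg.pPrimeCore p G := fun x hx => by
  have hle : (Cfsg.pPrimeCore p G).map a.toMonoidHom ≤ Cfsg.pPrimeCore p G :=
    le_pPrimeCore (Subgroup.Normal.map (Grp.pPrimeCore_isNormal) _ a.surjective)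
      ((pPrimeCore_coprime).coprime_dvd_left (Subgroup.card_map_dvd _ _))
  exact hle ⟨x, hx, rfl⟩

/-- The commutators with the automorphism generate a normal subgroup. -/
theorem comClosure_normal (a : MulAut G) : (comClosure a).Normal := by
  refine ⟨fun z hz g => ?_⟩
  induction hz using Subgroup.closure_induction with
  | mem z hz =>
    obtain ⟨x, rfl⟩ := hz
    have e : g * (x⁻¹ * a x) * g⁻¹ =
        ((x * g⁻¹)⁻¹ * a (x * g⁻¹)) * (g⁻¹⁻¹ * a g⁻¹)⁻¹ * 1 := by
      simp only [map_mul, map_inv]; group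
    rw [e, mul_one]
    exact mul_mem (Subgroup.subset_closure ⟨_, rfl⟩)
      (inv_mem (Subgroup.subset_closure ⟨_, rfl⟩))
  | one => simp
  | mul x y _ _ hx hy => rw [show g * (x * y) * g⁻¹ = (g * x * g⁻¹) * (g * y * g⁻¹) by group]
                         exact mul_mem hx hy
  | inv x _ hx => rw [show g * x⁻¹ * g⁻¹ = (g * x * g⁻¹)⁻¹ by group]; exact inv_mem hx

theorem comClosure_invariant (a : MulAut G) : ∀ x ∈ comClosure a, a x ∈ comClosure a := by
  intro x hx
  induction hx using Subgroup.closure_induction with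
  | mem z hz =>
    obtain ⟨y, rfl⟩ := hz
    exact Subgroup.subset_closure ⟨a y, by simp only [map_mul, map_inv]⟩
  | one => simp
  | mul x y _ _ hx hy => rw [map_mul]; exact mul_mem hx hy
  | inv x _ hx => rw [map_inv]; exact inv_mem hx

/-- `G = [G, a] C_G(a)`. -/
theorem comClosure_sup_fixed (h : Hyp r a) : comClosure a ⊔ fixed a = ⊤ := by
  refine eq_top_iff.2 fun x _ => ?_
  obtain ⟨c, hc, hc'⟩ := exists_fixed_rep h (comClosure_invariant a)
    (Subgroup.subset_closure ⟨x, rfl⟩ : x⁻¹ * a x ∈ comClosure a)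
  haveI := comClosure_normal a
  rw [show x = c * (x⁻¹ * c)⁻¹ by group]
  exact mul_mem (Subgroup.mem_sup_right hc) (Subgroup.mem_sup_left (inv_mem hc'))

end Cfsg.Agent.Grp.FpfThree
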