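import Cfsg.Agent.Lib.Grp.FpfThree.Structure
import Cfsg.Agent.Lib.Fus.StellFunctor
import Cfsg.Agent.Lib.Spor.FpfMod.Torus
import Cfsg.Agent.Lib.Invol.Sylow
import Cfsg.Agent.S0205

/-!
In a minimal nonsolvable example the normalizer of an invariant Sylow 2-subgroup controls fusion,
and some elementary abelian central subgroup is strongly closed with pairwise distinguished orbits.
-/

set_option autoImplicit false
set_option linter.style.haveILetI false
set_option linter.unusedSectionVars false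

namespace Cfsg.Agent.Grp.FpfThree

open Cfsg.Agent.Spor.FpfMod Cfsg.Agent.Block.SFour

universe u

variable {G : Type u} [Group G] [Finite G] {r : ℕ} {a : MulAut G}

/-- A minimal nonsolvable example. -/
structure Min (r : ℕ) (a : MulAut G) : Prop where
  hyp : Hyp r a
  ih : ∀ H : Subgroup G, H ≠ ⊤ → (∀ x ∈ H, a x ∈ H) → Group.IsSolvable H
  irr : ∀ N : Subgroup G, N.Normal → (∀ x ∈ N, a x ∈ N) → N = ⊥ ∨ N = ⊤
  ns : ¬ Group.IsSolvable G

theorem normalizer_invariant {W : Subgroup G} (hW : ∀ x ∈ W, a x ∈ W) :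
    ∀ x ∈ Subgroup.normalizer (W : Set G), a x ∈ Subgroup.normalizer (W : Set G) := fun x hx => by
  have h := Subgroup.le_normalizer_map (H := W) a.toMonoidHom ⟨x, hx, rfl⟩
  rwa [map_eq_of_invariant hW] at h

theorem not_involves_four (h : ¬ 3 ∣ Nat.card G) :
    ¬ Cfsg.Involves (Equiv.Perm (Fin 4)) G := by
  rintro ⟨K, R, hn, ⟨e⟩⟩
  refine h (dvd_trans ⟨8, ?_⟩ ((Subgroup.card_quotient_dvd_card (R.subgroupOf K)).trans
    (Subgroup.card_subgroup_dvd_card K)))
  rw [Nat.card_congr e.toEquiv, Nat.card_perm, Nat.card_fin]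
  rfl

theorem Min.pPrimeCore_eq_bot (m : Min r a) : Cfsg.pPrimeCore 2 G = ⊥ := by
  rcases m.irr _ Grp.pPrimeCore_isNormal (apply_mem_pPrimeCore a) with h | h
  · exact h
  exfalso
  have hc := pPrimeCore_coprime (p := 2) (G := G)
  rw [h, Subgroup.card_top] at hc
  exact m.ns (Cfsg.Agent.S0205.result (Nat.coprime_two_right.1 hc))

theorem Min.pCore_eq_bot (m : Min r a) : Cfsg.pCore 2 G = ⊥ := by
  haveI : Fact (Nat.Prime 2) := ⟨Nat.prime_two⟩
  rcases m.irr _ Grp.pCore_isNormal (apply_mem_pCore a) with h | h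
  · exact h
  exfalso
  have h2 : IsPGroup 2 G := (h ▸ pCore_isPGroup (p := 2) (G := G)).of_equiv Subgroup.topEquiv
  haveI := h2.isNilpotent
  exact m.ns inferInstance

theorem Min.center_eq_bot (m : Min r a) : Subgroup.center G = ⊥ := by
  rcases m.irr (Subgroup.center G) inferInstance (fun x hx => Subgroup.mem_center_iff.2 fun y => by
    obtain ⟨y, rfl⟩ := a.surjective y
    rw [← map_mul, ← map_mul, Subgroup.mem_center_iff.1 hx y]) with h | h
  · exact h
  exfalso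
  refine m.ns (Group.isSolvable_of_comm fun x y => ?_)
  exact Subgroup.mem_center_iff.1 (h ▸ Subgroup.mem_top y : y ∈ Subgroup.center G) x

/-- No normal subgroup of `G` of `p`-power or odd order, in membership form. -/
theorem Min.eq_bot_of_normal_two (m : Min r a) {N : Subgroup G} (hN : N.Normal)
    (h2 : IsPGroup 2 N) : N = ⊥ :=
  le_bot_iff.1 (m.pCore_eq_bot ▸ le_pCore hN h2)

theorem Min.eq_bot_of_normal_odd (m : Min r a) {N : Subgroup G} (hN : N.Normal)
    (h2 : ¬ 2 ∣ Nat.card N) : N = ⊥ :=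
  le_bot_iff.1 (m.pPrimeCore_eq_bot ▸ le_pPrimeCore hN
    ((Nat.prime_two.coprime_iff_not_dvd).2 h2).symm)

theorem Min.exists_sylow (m : Min r a) :
    ∃ S : Sylow 2 G, (S : Subgroup G) ≠ ⊥ ∧ ∀ x ∈ (S : Subgroup G), a x ∈ (S : Subgroup G) := by
  haveI : Fact (Nat.Prime 2) := ⟨Nat.prime_two⟩
  haveI : Fact r.Prime := ⟨m.hyp.prime⟩
  obtain ⟨S, hS⟩ := exists_invariant_sylow' 2 m.hyp.pow m.hyp.cop
  refine ⟨S, fun hbot => ?_, hS⟩
  have h := S.not_dvd_index
  rw [hbot, Subgroup.index_bot] at h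
  exact m.ns (Cfsg.Agent.S0205.result (Nat.not_even_iff_odd.1 fun he => h (even_iff_two_dvd.1 he)))

/-- The normalizer of an invariant Sylow 2-subgroup controls fusion. -/
theorem Min.fusion (m : Min r a) (S : Sylow 2 G) (hne : (S : Subgroup G) ≠ ⊥)
    (hS : ∀ x ∈ (S : Subgroup G), a x ∈ (S : Subgroup G)) {A : Set G}
    (hA : A ⊆ (S : Subgroup G)) {g : G} (hg : ∀ x ∈ A, g * x * g⁻¹ ∈ (S : Subgroup G)) :
    ∃ n ∈ Subgroup.normalizer ((S : Subgroup G) : Set G), ∀ x ∈ A, g * x * g⁻¹ = n * x * n⁻¹ := by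
  haveI : Fact (Nat.Prime 2) := ⟨Nat.prime_two⟩
  obtain ⟨W, hWd⟩ : ∃ W, W = Fus.Stell.wSub (S : Subgroup G) := ⟨_, rfl⟩
  obtain ⟨-, hc⟩ := Fus.Stell.controls_fusion (not_involves_four m.hyp.three) S hA
  obtain ⟨x, hx, hxe⟩ := hc g (by rintro _ ⟨y, hy, rfl⟩; exact hg y hy)
  rw [← hWd] at hx
  obtain ⟨M, hMd⟩ : ∃ M, M = Subgroup.normalizer (W : Set G) := ⟨_, rfl⟩
  rw [← hMd] at hx
  have hWS : W ≤ (S : Subgroup G) := hWd ▸ Fus.Stell.wSub_le _
  have hWa : ∀ y ∈ W, a y ∈ W := by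
    intro y hy
    have h1 := Fus.Stell.wSub_map (f := a.toMonoidHom) a.injective (S : Subgroup G)
    rw [map_eq_of_invariant hS, ← hWd] at h1
    exact h1.le ⟨y, hy, rfl⟩
  have hSM : (S : Subgroup G) ≤ M := by
    intro s hs
    rw [hMd, Grp.mem_normalizer_iff_smul, ← Grp.map_conj_eq_smul, hWd,
      Fus.Stell.wSub_map (f := (MulAut.conj s).toMonoidHom) (MulAut.conj s).injective,
      Grp.map_conj_eq_smul, Grp.mem_normalizer_iff_smul.1 (Subgroup.le_normalizer hs)]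
  have hMtop : M ≠ ⊤ := by
    intro hM
    rw [hMd, Subgroup.normalizer_eq_top_iff] at hM
    have := m.eq_bot_of_normal_two hM (S.2.to_le hWS)
    exact omegaZ_ne_bot S.2 hne (le_bot_iff.1 (this ▸ hWd ▸ Fus.Stell.omegaZ_le_wSub _))
  have hMa : ∀ y ∈ M, a y ∈ M := hMd ▸ normalizer_invariant hWa
  haveI := m.ih M hMtop hMa
  have hxtop : (⟨x, hx⟩ : M) ∈ Subgroup.normalizer ((S.subtype hSM : Subgroup M) : Set M) ⊔
      Cfsg.pPrimeCore 2 M := by
    rw [normalizer_sup_core (m.hyp.res hMa) (S.subtype hSM)]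
    trivial
  haveI : (Cfsg.pPrimeCore 2 M).Normal := Grp.pPrimeCore_isNormal
  obtain ⟨n, hn, o, ho, hno⟩ := Subgroup.mem_sup_of_normal_right.1 hxtop
  have hnS : (n : G) ∈ Subgroup.normalizer ((S : Subgroup G) : Set G) := by
    refine Subgroup.mem_normalizer_iff.2 fun z => ?_
    constructor
    · intro hz
      exact (Subgroup.mem_normalizer_iff.1 hn ⟨z, hSM hz⟩).1 hz
    · intro hz
      have hzM : z ∈ M := by
        have := M.mul_mem (M.mul_mem (M.inv_mem n.2) (hSM hz)) n.2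
        rwa [show (n : G)⁻¹ * ((n : G) * z * (n : G)⁻¹) * n = z by group] at this
      exact (Subgroup.mem_normalizer_iff.1 hn ⟨z, hzM⟩).2 hz
  refine ⟨n, hnS, fun y hy => ?_⟩
  have h1 : x = (n : G) * o := (congrArg Subtype.val hno).symm
  have h2 : (o : G) * y * (o : G)⁻¹ ∈ (S : Subgroup G) := by
    have h3 := (Subgroup.mem_normalizer_iff.1 hnS ((o : G) * y * (o : G)⁻¹)).2
    refine h3 ?_
    rw [show (n : G) * ((o : G) * y * (o : G)⁻¹) * (n : G)⁻¹ = x * y * x⁻¹ by rw [h1]; group,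
      ← hxe y hy]
    exact hg y hy
  have h4 : (o : G) * y * (o : G)⁻¹ * y⁻¹ = 1 := by
    have hyM : y ∈ M := hSM (hA hy)
    have hin : o * ⟨y, hyM⟩ * o⁻¹ * (⟨y, hyM⟩ : M)⁻¹ ∈
        Cfsg.pPrimeCore 2 M ⊓ (S.subtype hSM : Subgroup M) := by
      refine ⟨?_, ?_⟩
      · rw [show o * ⟨y, hyM⟩ * o⁻¹ * (⟨y, hyM⟩ : M)⁻¹ =
          o * (⟨y, hyM⟩ * o⁻¹ * (⟨y, hyM⟩ : M)⁻¹) by group]
        exact mul_mem ho ((inferInstance : (Cfsg.pPrimeCore 2 M).Normal).conj_mem _ (inv_mem ho) _)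
      · exact (S : Subgroup G).mul_mem h2 ((S : Subgroup G).inv_mem (hA hy))
    have hbot : Cfsg.pPrimeCore 2 M ⊓ (S.subtype hSM : Subgroup M) = ⊥ := by
      obtain ⟨j, hj⟩ := IsPGroup.iff_card.1 (S.subtype hSM).2
      refine Grp.inf_eq_bot_of_coprime ?_
      rw [hj]
      exact (pPrimeCore_coprime (p := 2)).pow_right _
    rw [hbot, Subgroup.mem_bot] at hin
    exact congrArg Subtype.val hin
  rw [hxe y hy, h1]
  calc (n : G) * o * y * ((n : G) * o)⁻¹ = (n : G) * ((o : G) * y * (o : G)⁻¹ * y⁻¹) * y * (n : G)⁻¹ := by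
        group
    _ = (n : G) * y * (n : G)⁻¹ := by rw [h4, mul_one]

/-- An invariant strongly closed central elementary abelian subgroup of the Sylow subgroup, in
which distinct powers of the automorphism are never conjugate. -/
structure Closed (r : ℕ) (a : MulAut G) (S : Sylow 2 G) (V : Subgroup G) : Prop where
  ne_bot : V ≠ ⊥
  le_omega : V ≤ omegaZ (S : Subgroup G)
  inv : ∀ v ∈ V, a v ∈ V
  closed : ∀ v ∈ V, ∀ g : G, g * v * g⁻¹ ∈ (S : Subgroup G) → g * v * g⁻¹ ∈ V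
  not_conj : ∀ v ∈ V, v ≠ 1 → ∀ g : G, g * v * g⁻¹ ≠ a v
  fix_one : ∀ u ∈ V, u ≠ 1 → ∀ v ∈ V, ∀ g : G, g * u * g⁻¹ = u →
    g * v * g⁻¹ ∈ (S : Subgroup G) → g * v * g⁻¹ = v

theorem Closed.le_sylow {S : Sylow 2 G} {V : Subgroup G} (c : Closed r a S V) :
    V ≤ (S : Subgroup G) := c.le_omega.trans (omegaZ_le _)

theorem Closed.sq {S : Sylow 2 G} {V : Subgroup G} (c : Closed r a S V) {v : G} (hv : v ∈ V) :
    v ^ 2 = 1 := (c.le_omega hv).1.2

theorem Closed.comm {S : Sylow 2 G} {V : Subgroup G} (c : Closed r a S V) {v w : G} (hv : v ∈ V)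
    (hw : w ∈ V) : v * w = w * v := (c.le_omega hw).2 v (c.le_sylow hv)

theorem Closed.orderOf_eq {S : Sylow 2 G} {V : Subgroup G} (c : Closed r a S V) {v : G}
    (hv : v ∈ V) (h1 : v ≠ 1) : orderOf v = 2 :=
  orderOf_eq_prime (hp := ⟨Nat.prime_two⟩) (c.sq hv) h1

theorem apply_pow_conj (a : MulAut G) {c v : G} (hc : a c = c) (hcv : c * v * c⁻¹ = a v) (k : ℕ) :
    c ^ k * v * (c ^ k)⁻¹ = (a ^ k) v := by
  induction k with
  | zero => simp
  | succ k ih =>
    rw [pow_succ' a, MulAut.mul_apply, ← ih, map_mul, map_mul, map_inv, map_pow, hc, ← hcv]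
    group

theorem Min.exists_closed (m : Min r a) :
    ∃ (S : Sylow 2 G) (V : Subgroup G), Closed r a S V := by
  haveI : Fact (Nat.Prime 2) := ⟨Nat.prime_two⟩
  obtain ⟨S, hne, hS⟩ := m.exists_sylow
  obtain ⟨N, hNd⟩ : ∃ N, N = Subgroup.normalizer ((S : Subgroup G) : Set G) := ⟨_, rfl⟩
  have hNa : ∀ y ∈ N, a y ∈ N := hNd ▸ normalizer_invariant hS
  have hNtop : N ≠ ⊤ := by
    intro h
    rw [hNd, Subgroup.normalizer_eq_top_iff] at h
    exact hne (m.eq_bot_of_normal_two h S.2)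
  haveI := m.ih N hNtop hNa
  have hSN : (S : Subgroup G) ≤ N := hNd ▸ Subgroup.le_normalizer
  haveI : ((S.subtype hSN : Subgroup N)).Normal := by
    rw [Sylow.coe_subtype]
    exact Subgroup.normal_subgroupOf_of_le_normalizer hNd.le
  have act : ∀ n ∈ N, ∃ c ∈ N, a c = c ∧ ∀ v ∈ omegaZ (S : Subgroup G),
      n * v * n⁻¹ = c * v * c⁻¹ := by
    intro n hn
    obtain ⟨c, hc, hcv⟩ := exists_fixed_conj (m.hyp.res hNa) (S.subtype hSN) ⟨n, hn⟩
    refine ⟨c, c.2, congrArg Subtype.val hc, fun v hv => ?_⟩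
    exact congrArg Subtype.val (hcv ⟨v, hSN hv.1.1⟩ hv.1.1 fun s hs => Subtype.ext (hv.2 (s : G) hs))
  let P : Subgroup G → Prop := fun V => V ≠ ⊥ ∧ V ≤ omegaZ (S : Subgroup G) ∧
    (∀ v ∈ V, a v ∈ V) ∧ ∀ n ∈ N, ∀ v ∈ V, n * v * n⁻¹ ∈ V
  have hP0 : P (omegaZ (S : Subgroup G)) := by
    refine ⟨omegaZ_ne_bot S.2 hne, le_rfl, fun v hv => ?_, fun n hn v hv => ?_⟩
    · have h1 := omegaZ_map (f := a.toMonoidHom) a.injective (S : Subgroup G)
      rw [map_eq_of_invariant hS] at h1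
      exact h1.le ⟨v, hv, rfl⟩
    · have h1 := omegaZ_map (f := (MulAut.conj n).toMonoidHom) (MulAut.conj n).injective
        (S : Subgroup G)
      rw [Grp.map_conj_eq_smul (S : Subgroup G), Grp.mem_normalizer_iff_smul.1 (hNd ▸ hn)] at h1
      exact h1.le ⟨v, hv, rfl⟩
  obtain ⟨V, ⟨hV0, hVle, hVa, hVn⟩, hmin⟩ :=
    Set.exists_min_image {V | P V} (fun V => Nat.card V) (Set.toFinite _) ⟨_, hP0⟩
  have hVS : V ≤ (S : Subgroup G) := hVle.trans (omegaZ_le _)
  refine ⟨S, V, hV0, hVle, hVa, fun v hv g hg => ?_, fun v hv hv1 g hg => ?_,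
    fun u hu hu1 v hv g hgu hgv => ?_⟩
  · obtain ⟨n, hn, hne'⟩ := m.fusion S hne hS (A := {v}) (Set.singleton_subset_iff.2 (hVS hv))
      (fun x hx => by rw [Set.mem_singleton_iff.1 hx]; exact hg)
    rw [hne' v rfl]
    exact hVn n (hNd ▸ hn) v hv
  · obtain ⟨n, hn, hne'⟩ := m.fusion S hne hS (A := {v}) (Set.singleton_subset_iff.2 (hVS hv))
      (fun x hx => by rw [Set.mem_singleton_iff.1 hx, hg]; exact hS _ (hVS hv))
    obtain ⟨c, hcN, hc, hcv⟩ := act n (hNd ▸ hn)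
    have hca : c * v * c⁻¹ = a v := by rw [← hcv v (hVle hv), ← hne' v rfl, hg]
    have hr : c ^ r * v * (c ^ r)⁻¹ = v := by rw [apply_pow_conj a hc hca, m.hyp.pow, MulAut.one_apply]
    have hcop : (orderOf c).Coprime r := ((m.hyp.prime.coprime_iff_not_dvd).2 fun hd =>
      m.hyp.cop (hd.trans (orderOf_dvd_natCard c))).symm
    obtain ⟨k, hk⟩ := exists_pow_eq_self_of_coprime hcop.symm
    have hcomm : Commute (c ^ r) v := mul_inv_eq_iff_eq_mul.1 hr
    have hc2 := hcomm.pow_left k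
    rw [hk] at hc2
    have hav : a v = v := by rw [← hca, hc2.eq, mul_inv_cancel_right]
    have h2 := m.hyp.odd v hav
    rw [orderOf_eq_prime (hp := ⟨Nat.prime_two⟩) (hVle hv).1.2 hv1] at h2
    exact absurd h2 (by decide)
  · obtain ⟨n, hn, hne'⟩ := m.fusion S hne hS (A := {u, v})
      (Set.insert_subset (hVS hu) (Set.singleton_subset_iff.2 (hVS hv)))
      (fun x hx => by
        rcases hx with hx | hx
        · rw [hx, hgu]; exact hVS hu
        · rw [Set.mem_singleton_iff.1 hx]; exact hgv)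
    obtain ⟨c, hcN, hc, hcv⟩ := act n (hNd ▸ hn)
    have hcu : c * u * c⁻¹ = u := by
      rw [← hcv u (hVle hu), ← hne' u (Set.mem_insert _ _), hgu]
    have hW : V ≤ V ⊓ Subgroup.centralizer {c} := by
      refine (Subgroup.eq_of_le_of_card_ge inf_le_left (hmin _ ⟨?_, inf_le_left.trans hVle,
        fun w hw => ⟨hVa w hw.1, ?_⟩, fun n' hn' w hw => ⟨hVn n' hn' w hw.1, ?_⟩⟩)).ge
      · intro h
        refine hu1 (Subgroup.mem_bot.1 (h ▸ ⟨hu, Subgroup.mem_centralizer_singleton_iff.2 ?_⟩))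
        exact (mul_inv_eq_iff_eq_mul.1 hcu).symm
      · show a w ∈ Subgroup.centralizer {c}
        rw [Subgroup.mem_centralizer_singleton_iff]
        have := congrArg a (Subgroup.mem_centralizer_singleton_iff.1 hw.2)
        rwa [map_mul, map_mul, hc] at this
      · obtain ⟨c', hc'N, hc', hcv'⟩ := act n' hn'
        show n' * w * n'⁻¹ ∈ Subgroup.centralizer {c}
        rw [Subgroup.mem_centralizer_singleton_iff, hcv' w (hVle hw.1)]
        have e1 := m.hyp.comm c c' hc hc'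
        have e2 := Subgroup.mem_centralizer_singleton_iff.1 hw.2
        calc c' * w * c'⁻¹ * c = c' * w * (c'⁻¹ * c) := by group
          _ = c' * w * (c * c'⁻¹) := by rw [(show Commute c' c from e1.symm).inv_left.eq]
          _ = c' * (w * c) * c'⁻¹ := by group
          _ = c' * (c * w) * c'⁻¹ := by rw [e2]
          _ = c * (c' * w * c'⁻¹) := by rw [← mul_assoc c' c w, ← e1]; group
    rw [hne' v (Set.mem_insert_of_mem _ rfl), hcv v (hVle hv)]
    rw [← Subgroup.mem_centralizer_singleton_iff.1 (hW hv).2, mul_inv_cancel_right]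

end Cfsg.Agent.Grp.FpfThree
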