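import Cfsg.Agent.Lib.Grp.FpfThree.Signalizer

/-!
A finite group of order prime to three with an automorphism of prime order, coprime to the group,
whose fixed points form an abelian group of odd order is solvable.
-/

set_option autoImplicit false
set_option linter.style.haveILetI false
set_option linter.unusedSectionVars false

namespace Cfsg.Agent.Grp.FpfThree

open Cfsg.Agent.Block.SFour

universe u

variable {G : Type u} [Group G] [Finite G] {r : ℕ} {a : MulAut G}

theorem Min.absurd_of_min (m : Min r a) : False := by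
  haveI : Fact (Nat.Prime 2) := ⟨Nat.prime_two⟩
  obtain ⟨S, V, c⟩ := m.exists_closed
  obtain ⟨M, hMtop, hM⟩ := c.exists_proper m
  have hmem : ∀ u ∈ V, u ≠ 1 → ∀ h : G, h * u * h⁻¹ ∈ M := by
    intro u hu hu1 h
    obtain ⟨z, hz, hz1, hnc⟩ : ∃ z ∈ V, z ≠ 1 ∧ ∀ g : G, g * u * g⁻¹ ≠ z :=
      ⟨a u, c.inv u hu, fun e => hu1 (a.injective (e.trans (map_one a).symm)), c.not_conj u hu hu1⟩
    obtain ⟨x, hxd⟩ : ∃ x, x = h * u * h⁻¹ := ⟨_, rfl⟩
    rw [← hxd]
    have hz2 := c.orderOf_eq hz hz1
    have hx2 : orderOf x = 2 := by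
      rw [hxd, show h * u * h⁻¹ = MulAut.conj h u from rfl, MulEquiv.orderOf_eq]
      exact c.orderOf_eq hu hu1
    obtain ⟨k, b, hb, hord⟩ := Nat.exists_eq_pow_mul_and_not_dvd (orderOf_pos (z * x)).ne' 2
      (by norm_num)
    have hbodd : Odd b := Nat.not_even_iff_odd.1 fun he => hb (even_iff_two_dvd.1 he)
    obtain ⟨d, -, hd, hwo⟩ := Invol.exists_conj_two_part hz2 hx2 hord hbodd
    obtain ⟨w, hwd⟩ : ∃ w, w = (z * x) ^ b := ⟨_, rfl⟩
    rw [← hwd] at hd hwo
    obtain ⟨y, hyd⟩ : ∃ y, y = z * w := ⟨_, rfl⟩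
    rw [← hyd] at hd
    have hy2 : orderOf y = 2 := by
      rw [← hd, show d * x * d⁻¹ = MulAut.conj d x from rfl, MulEquiv.orderOf_eq, hx2]
    have hzz : z * z = 1 := by rw [← pow_two]; exact c.sq hz
    have hzy : z * y = w := by rw [hyd, ← mul_assoc, hzz, one_mul]
    have hQ : IsPGroup 2 (Subgroup.closure ({z, y} : Set G)) :=
      Invol.isPGroup_closure_pair (a := k) hz2 hy2 (by rw [hzy, hwo])
    -- the two involutions commute and are distinct
    obtain ⟨g, hg⟩ := Invol.exists_conj_subset_sylow hQ S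
    have hgz := c.closed z hz g (hg z (Subgroup.subset_closure (Set.mem_insert _ _)))
    have hyu : y = d * h * u * (d * h)⁻¹ := by rw [← hd, hxd]; group
    have hgy : g * y * g⁻¹ ∈ V := by
      have h1 := hg y (Subgroup.subset_closure (Set.mem_insert_of_mem _ rfl))
      rw [hyu] at h1 ⊢
      rw [show g * (d * h * u * (d * h)⁻¹) * g⁻¹ = g * (d * h) * u * (g * (d * h))⁻¹ by group] at h1 ⊢
      exact c.closed u hu _ h1
    have hne : y ≠ z := fun e => hnc (d * h) (hyu.symm.trans e)
    have hcomm : y * z = z * y := by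
      have e := c.comm hgy hgz
      calc y * z = g⁻¹ * (g * y * g⁻¹ * (g * z * g⁻¹)) * g := by group
        _ = g⁻¹ * (g * z * g⁻¹ * (g * y * g⁻¹)) * g := by rw [e]
        _ = z * y := by group
    -- move them into the Sylow subgroup inside the centralizer of `z`
    let C := Subgroup.centralizer ({z} : Set G)
    have hQC : Subgroup.closure ({z, y} : Set G) ≤ C := by
      rw [Subgroup.closure_le]
      rintro t (rfl | rfl)
      · exact Subgroup.mem_centralizer_singleton_iff.2 rfl
      · exact Subgroup.mem_centralizer_singleton_iff.2 hcomm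
    obtain ⟨e, he⟩ := Invol.exists_conj_subset_sylow
      (hQ.comap_subtype (K := C)) (S.subtype (c.le_centralizer hz))
    have hez : (e : G) * z * (e : G)⁻¹ = z :=
      mul_inv_eq_iff_eq_mul.2 (Subgroup.mem_centralizer_singleton_iff.1 e.2)
    have hey : (e : G) * y * (e : G)⁻¹ ∈ V := by
      have h1 : (e : G) * y * (e : G)⁻¹ ∈ (S : Subgroup G) :=
        he ⟨y, hQC (Subgroup.subset_closure (Set.mem_insert_of_mem _ rfl))⟩
          (Subgroup.subset_closure (Set.mem_insert_of_mem _ rfl))
      rw [hyu] at h1 ⊢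
      rw [show (e : G) * (d * h * u * (d * h)⁻¹) * (e : G)⁻¹ =
        (e : G) * (d * h) * u * ((e : G) * (d * h))⁻¹ by group] at h1 ⊢
      exact c.closed u hu _ h1
    obtain ⟨v, hvd⟩ : ∃ v, v = (e : G) * w * (e : G)⁻¹ := ⟨_, rfl⟩
    have hv : v ∈ V := by
      rw [hvd, ← hzy, show (e : G) * (z * y) * (e : G)⁻¹ =
        ((e : G) * z * (e : G)⁻¹) * ((e : G) * y * (e : G)⁻¹) by group, hez]
      exact mul_mem hz hey
    have hv1 : v ≠ 1 := by
      intro h1
      rw [hvd, conj_eq_one_iff, ← hzy, mul_eq_one_iff_eq_inv] at h1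
      exact hne (by rw [← inv_inj, ← h1]; exact (inv_eq_of_mul_eq_one_right hzz).symm)
    have hw2 : w * w = 1 := by
      rw [← hzy, show z * y * (z * y) = z * (y * z) * y by group, hcomm,
        show z * (z * y) * y = z * z * (y * y) by group, hzz, ← pow_two, ← hy2, pow_orderOf_eq_one,
        one_mul]
    have hxx : x * x = 1 := by rw [← pow_two, ← hx2, pow_orderOf_eq_one]
    have hxwx : x * w * x⁻¹ = w := by
      have e1 : x * (z * x) * x⁻¹ = (z * x)⁻¹ := by
        rw [mul_inv_rev, inv_eq_of_mul_eq_one_right hxx, inv_eq_of_mul_eq_one_right hzz,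
          show x * (z * x) * x = x * z * (x * x) by group, hxx, mul_one]
      rw [hwd, show x * (z * x) ^ b * x⁻¹ = (x * (z * x) * x⁻¹) ^ b from
        (map_pow (MulAut.conj x) (z * x) b), e1, inv_pow, ← hwd]
      exact inv_eq_of_mul_eq_one_right hw2
    have hin : (e : G) * x * (e : G)⁻¹ ∈ M := by
      refine hM v hv hv1 (Subgroup.mem_centralizer_singleton_iff.2 ?_)
      have e2 : x * w = w * x := mul_inv_eq_iff_eq_mul.1 hxwx
      rw [hvd, show (e : G) * x * (e : G)⁻¹ * ((e : G) * w * (e : G)⁻¹) =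
        (e : G) * (x * w) * (e : G)⁻¹ by group, e2]
      group
    have heM : (e : G) ∈ M := hM z hz hz1 e.2
    have := M.mul_mem (M.mul_mem (M.inv_mem heM) hin) heM
    rwa [show (e : G)⁻¹ * ((e : G) * x * (e : G)⁻¹) * (e : G) = x by group] at this
  have hN : Subgroup.normalClosure (V : Set G) ≤ M := by
    rw [Subgroup.normalClosure, Subgroup.closure_le]
    intro y hy
    obtain ⟨u, hu, hconj⟩ := Group.mem_conjugatesOfSet_iff.1 hy
    obtain ⟨h, rfl⟩ := isConj_iff.1 hconj
    rcases eq_or_ne u 1 with rfl | hu1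
    · simp
    · exact hmem u hu hu1 h
  have hNa : ∀ y ∈ Subgroup.normalClosure (V : Set G), a y ∈ Subgroup.normalClosure (V : Set G) := by
    intro y hy
    have h1 : Subgroup.normalClosure (V : Set G) ≤
        (Subgroup.normalClosure (V : Set G)).comap a.toMonoidHom :=
      Subgroup.normalClosure_le_normal fun v hv => Subgroup.subset_normalClosure (c.inv v hv)
    exact h1 hy
  rcases m.irr _ Subgroup.normalClosure_normal hNa with h | h
  · exact c.ne_bot (le_bot_iff.1 (h ▸ Subgroup.le_normalClosure))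
  · exact hMtop (top_le_iff.1 (h ▸ hN))

/-- The solvability theorem. -/
theorem isSolvable_of_hyp : ∀ {G : Type u} [Group G] [Finite G] {r : ℕ} {a : MulAut G},
    Hyp r a → Group.IsSolvable G := by
  intro G _ _ r a h
  induction hn : Nat.card G using Nat.strong_induction_on generalizing G with
  | _ n ih =>
    by_contra hns
    have hsub : ∀ H : Subgroup G, H ≠ ⊤ → (∀ x ∈ H, a x ∈ H) → Group.IsSolvable H :=
      fun H hH hHa => ih _ (hn ▸ Grp.card_lt_of_ne_top hH) (h.res hHa) rfl
    refine (Min.absurd_of_min (r := r) (a := a) ⟨h, hsub, fun N hN hNa => ?_, hns⟩ : False)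
    by_contra hcon
    push Not at hcon
    haveI := hN
    haveI := hsub N hcon.2 hNa
    haveI : Group.IsSolvable (G ⧸ N) :=
      ih _ (hn ▸ Grp.card_quotient_lt hcon.1) (h.quot N hNa) rfl
    exact hns (Group.isSolvable_of_ker_le_range N.subtype (QuotientGroup.mk' N) (by simp))

end Cfsg.Agent.Grp.FpfThree
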