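import Cfsg.Agent.Lib.Grp.FpfThree.Act
import Cfsg.Agent.Lib.Grp.Solvable
import Cfsg.Agent.Lib.Grp.Frattini
import Cfsg.Agent.S3041

/-!
In a solvable group such an automorphism acts trivially modulo `O_{2',2}`, so the Sylow 2-subgroup
is normal modulo the core.
-/

set_option autoImplicit false
set_option linter.style.haveILetI false
set_option linter.unusedSectionVars false

namespace Cfsg.Agent.Grp.FpfThree

open Cfsg.Agent.Spor.FpfMod

universe u

/-- The fixed point theorem of Shult type holds. -/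
theorem shult : ShultStatement.{u} := fun G R _ hX r hr hR hcop _ _ _ _ _ _ _ ρ hf hirr hfix =>
  Cfsg.Agent.S3041.result G R hX r hr hR hcop ρ hf hirr hfix

variable {G : Type u} [Group G] [Finite G] {r : ℕ} {a : MulAut G}

/-- With trivial core the commutators with the automorphism lie in `O₂`. -/
theorem comClosure_le_pCore (h : Hyp r a) [Group.IsSolvable G]
    (hO : Cfsg.pPrimeCore 2 G = ⊥) : comClosure a ≤ Cfsg.pCore 2 G := by
  haveI : Fact (Nat.Prime 2) := ⟨Nat.prime_two⟩
  haveI hN : (Cfsg.pCore 2 G).Normal := Grp.pCore_isNormal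
  let ρ : G →* MulAut (Cfsg.pCore 2 G) := MulAut.conjNormal
  let b : MulAut (Cfsg.pCore 2 G) := resAut a _ (apply_mem_pCore a)
  have hb : (b : MulAut _) ^ r = 1 := (h.res (apply_mem_pCore a)).pow
  have hact : Act a b ρ r := by
    refine ⟨fun g => MulEquiv.ext fun v => ?_, hb, fun v hv => ?_⟩
    · obtain ⟨w, rfl⟩ := b.surjective v
      rw [MulAut.mul_apply, MulAut.mul_apply, MulAut.inv_apply_self]
      refine Subtype.ext ?_
      show (ρ (a g) (b w) : G) = a ((ρ g w : Cfsg.pCore 2 G) : G)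
      rw [MulAut.conjNormal_apply, MulAut.conjNormal_apply, resAut_coe, map_mul, map_mul, map_inv]
    · obtain ⟨k, hk⟩ := (pCore_isPGroup (p := 2) (G := G)) v
      have hodd := h.odd (v : G) (congrArg Subtype.val hv)
      rw [Subgroup.orderOf_coe] at hodd
      obtain ⟨i, -, hi⟩ := (Nat.dvd_prime_pow Nat.prime_two).1 (orderOf_dvd_of_pow_eq_one hk)
      rcases i with _ | i
      · exact orderOf_eq_one_iff.1 (by rw [hi]; rfl)
      · exact absurd (hi ▸ hodd) (Nat.not_odd_iff_even.2 ⟨2 ^ i, by rw [pow_succ]; ring⟩)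
  haveI := comClosure_normal a
  have h2g : IsPGroup 2 (comClosure a) := by
    rintro ⟨y, hy⟩
    obtain ⟨k, m, hm, hord⟩ := Nat.exists_eq_pow_mul_and_not_dvd (orderOf_pos y).ne' 2
      (by norm_num)
    refine ⟨k, Subtype.ext ?_⟩
    have hm2 : Nat.Coprime m 2 := ((Nat.prime_two.coprime_iff_not_dvd).2 hm).symm
    have hy1 : (y ^ 2 ^ k) ^ m = 1 := by rw [← pow_mul, ← hord, pow_orderOf_eq_one]
    have hker : ρ (y ^ 2 ^ k) = 1 := by
      refine eq_one_of_irreducible (pCore_isPGroup (p := 2)) hact hm2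
        (by rw [← map_pow, hy1, map_one]) ?_
      intro W _ _ _ b' ρ' hexp h' hirr _
      obtain ⟨h2, -⟩ := irreducible_image shult h.prime h.cop hexp h' hirr
      obtain ⟨i, hi⟩ := h2 _ ((comClosure a).pow_mem hy (2 ^ k))
      exact eq_one_of_pow_pow hm2.symm i 1 hi (by rw [pow_one, ← map_pow, hy1, map_one])
    have hyQ : y ^ 2 ^ k ∈ Cfsg.pCore 2 G := by
      refine centralizer_pCore_le hO (Subgroup.mem_centralizer_iff.2 fun v hv => ?_)
      have h1 : (y ^ 2 ^ k) * v * (y ^ 2 ^ k)⁻¹ = v := by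
        rw [← MulAut.conjNormal_apply (H := Cfsg.pCore 2 G) (y ^ 2 ^ k) ⟨v, hv⟩]
        exact congrArg (fun σ : MulAut (Cfsg.pCore 2 G) => ((σ ⟨v, hv⟩ : _) : G)) hker
      exact (mul_inv_eq_iff_eq_mul.1 h1).symm
    obtain ⟨j, hj⟩ := (pCore_isPGroup (p := 2) (G := G)) ⟨_, hyQ⟩
    exact eq_one_of_pow_pow hm2.symm j 1 (congrArg Subtype.val hj) (by rw [pow_one]; exact hy1)
  exact le_pCore (comClosure_normal a) h2g

end Cfsg.Agent.Grp.FpfThree
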