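import Cfsg.Agent.Lib.Grp.FpfThree.Solvable
import Cfsg.Agent.Lib.Grp.Basic

/-!
The structure of the solvable groups: `G = O_{2',2}(G) C_G(a)`, with a Sylow 2-subgroup normal
modulo the core.
-/

set_option autoImplicit false
set_option linter.style.haveILetI false
set_option linter.unusedSectionVars false

namespace Cfsg.Agent.Grp.FpfThree

open Cfsg.Agent.Spor.FpfMod

universe u

variable {G : Type u} [Group G] [Finite G] {r : ℕ} {a : MulAut G}

theorem pPrimePCore_normal : (Cfsg.pPrimePCore 2 G).Normal := by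
  haveI : (Cfsg.pPrimeCore 2 G).Normal := Grp.pPrimeCore_isNormal
  haveI : (Cfsg.pCore 2 (G ⧸ Cfsg.pPrimeCore 2 G)).Normal := Grp.pCore_isNormal
  exact Subgroup.Normal.comap inferInstance _

theorem comClosure_le_pPrimePCore (h : Hyp r a) [Group.IsSolvable G] :
    comClosure a ≤ Cfsg.pPrimePCore 2 G := by
  haveI : Fact (Nat.Prime 2) := ⟨Nat.prime_two⟩
  haveI : (Cfsg.pPrimeCore 2 G).Normal := Grp.pPrimeCore_isNormal
  have hq := h.quot (Cfsg.pPrimeCore 2 G) (apply_mem_pPrimeCore a)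
  haveI : Group.IsSolvable (G ⧸ Cfsg.pPrimeCore 2 G) :=
    Group.isSolvable_of_surjective (QuotientGroup.mk'_surjective _)
  refine (Subgroup.closure_le _).2 ?_
  rintro _ ⟨x, rfl⟩
  exact comClosure_le_pCore hq pPrimeCore_quotient_eq_bot
    (Subgroup.subset_closure ⟨(x : G ⧸ Cfsg.pPrimeCore 2 G), rfl⟩)

theorem sup_fixed_eq_top (h : Hyp r a) [Group.IsSolvable G] :
    Cfsg.pPrimePCore 2 G ⊔ fixed a = ⊤ := by
  refine top_le_iff.1 ?_
  rw [← comClosure_sup_fixed h]
  exact sup_le_sup_right (comClosure_le_pPrimePCore h) _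

theorem odd_index (h : Hyp r a) [Group.IsSolvable G] : ¬ 2 ∣ (Cfsg.pPrimePCore 2 G).index := by
  haveI := pPrimePCore_normal (G := G)
  intro hd
  have h1 : (Cfsg.pPrimePCore 2 G).relIndex (fixed a) = (Cfsg.pPrimePCore 2 G).index := by
    rw [← Subgroup.relIndex_sup_right, sup_comm, sup_fixed_eq_top h, Subgroup.relIndex_top_right]
  have h2 : 2 ∣ Nat.card (fixed a) := by
    rw [← h1] at hd
    exact hd.trans (Subgroup.index_dvd_card _)
  exact (Nat.not_even_iff_odd.2 h.odd_card) (even_iff_two_dvd.2 h2)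

theorem pPrimePCore_le_sup (S : Sylow 2 G) :
    Cfsg.pPrimePCore 2 G ≤ Cfsg.pPrimeCore 2 G ⊔ (S : Subgroup G) := by
  haveI : Fact (Nat.Prime 2) := ⟨Nat.prime_two⟩
  haveI : (Cfsg.pPrimeCore 2 G).Normal := Grp.pPrimeCore_isNormal
  have h1 : Cfsg.pCore 2 (G ⧸ Cfsg.pPrimeCore 2 G) ≤
      (S : Subgroup G).map (QuotientGroup.mk' (Cfsg.pPrimeCore 2 G)) :=
    pCore_le_sylow (S.mapSurjective (QuotientGroup.mk'_surjective _))
  have h2 : Cfsg.pPrimePCore 2 G ≤ _ := Subgroup.comap_mono h1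
  rwa [Subgroup.comap_map_eq, QuotientGroup.ker_mk', sup_comm] at h2

theorem sylow_le_pPrimePCore (h : Hyp r a) [Group.IsSolvable G] (S : Sylow 2 G) :
    (S : Subgroup G) ≤ Cfsg.pPrimePCore 2 G := by
  haveI : Fact (Nat.Prime 2) := ⟨Nat.prime_two⟩
  haveI := pPrimePCore_normal (G := G)
  obtain ⟨k, hk⟩ := IsPGroup.iff_card.1 S.2
  refine Grp.le_of_coprime_index ?_
  rw [hk]
  exact Nat.Coprime.pow_left _ ((Nat.prime_two.coprime_iff_not_dvd).2 (odd_index h))

/-- The Sylow subgroup is normal modulo the core. -/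
theorem normalizer_sup_core (h : Hyp r a) [Group.IsSolvable G] (S : Sylow 2 G) :
    Subgroup.normalizer ((S : Subgroup G) : Set G) ⊔ Cfsg.pPrimeCore 2 G = ⊤ := by
  haveI : Fact (Nat.Prime 2) := ⟨Nat.prime_two⟩
  haveI := pPrimePCore_normal (G := G)
  have hS := sylow_le_pPrimePCore h S
  have h1 := Sylow.normalizer_sup_eq_top (S.subtype hS)
  rw [Sylow.coe_subtype, Subgroup.map_subgroupOf_eq_of_le hS] at h1
  refine top_le_iff.1 (h1.ge.trans (sup_le le_sup_left ((pPrimePCore_le_sup S).trans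
    (sup_le le_sup_right ?_))))
  exact Subgroup.le_normalizer.trans le_sup_left

/-- When the Sylow subgroup is normal, every element acts on its centre like a fixed point. -/
theorem exists_fixed_conj (h : Hyp r a) [Group.IsSolvable G] (S : Sylow 2 G)
    [hS : (S : Subgroup G).Normal] (g : G) : ∃ c, a c = c ∧ ∀ v ∈ (S : Subgroup G),
      (∀ s ∈ (S : Subgroup G), s * v = v * s) → g * v * g⁻¹ = c * v * c⁻¹ := by
  haveI : Fact (Nat.Prime 2) := ⟨Nat.prime_two⟩
  haveI := pPrimePCore_normal (G := G)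
  haveI : (Cfsg.pPrimeCore 2 G).Normal := Grp.pPrimeCore_isNormal
  have hg : g ∈ fixed a ⊔ Cfsg.pPrimePCore 2 G := by
    rw [sup_comm, sup_fixed_eq_top h]; trivial
  obtain ⟨c, hc, k, hk, rfl⟩ := Subgroup.mem_sup_of_normal_right.1 hg
  refine ⟨c, hc, fun v hv hcent => ?_⟩
  obtain ⟨o, ho, s, hs, rfl⟩ := Subgroup.mem_sup_of_normal_left.1 (pPrimePCore_le_sup S hk)
  have hov : o * v = v * o := by
    refine Subgroup.commute_of_normal_of_disjoint _ _ inferInstance hS ?_ o v ho hv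
    refine disjoint_iff.2 (Grp.inf_eq_bot_of_coprime ?_)
    obtain ⟨j, hj⟩ := IsPGroup.iff_card.1 S.2
    rw [hj]
    exact (pPrimeCore_coprime (p := 2)).pow_right _
  calc c * (o * s) * v * (c * (o * s))⁻¹ = c * o * (s * v) * s⁻¹ * o⁻¹ * c⁻¹ := by group
    _ = c * (o * v) * o⁻¹ * c⁻¹ := by rw [hcent s hs]; group
    _ = c * v * c⁻¹ := by rw [hov]; group

end Cfsg.Agent.Grp.FpfThree
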